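import Groth.Agent.Sga4B.JFComp
import Groth.Agent.Sga4B.DualWBasic
import Groth.Agent.Sga4B.DualIface

/-!
# Comparison of `H^q(Q, L[V]) ⟶ H^q(Q, L[U])` along base changes and changes of the target
-/

set_option autoImplicit false
universe u
open CategoryTheory CategoryTheory.Limits AlgebraicGeometry Opposite
open Groth.Agent.Sga4B Groth.Agent.Sga4B.DualShape

namespace Groth.Agent.Etdl.H834.Arrow

/-- A functor kills a morphism iff it kills an isomorphic one. -/
theorem map_eq_zero_iff {C D : Type*} [Category* C] [Category* D] [HasZeroMorphisms D] (F : C ⥤ D)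
    {X Y X' Y' : C} {f : X ⟶ Y} {g : X' ⟶ Y'} (e : Arrow.mk f ≅ Arrow.mk g) :
    F.map f = 0 ↔ F.map g = 0 := by
  have h1 : f ≫ e.hom.right = e.hom.left ≫ g := e.hom.w.symm
  have h2 : g ≫ e.inv.right = e.inv.left ≫ f := e.inv.w.symm
  have a1 : e.hom.right ≫ e.inv.right = 𝟙 _ := congrArg (fun t => t.right) e.hom_inv_id
  have a2 : e.inv.right ≫ e.hom.right = 𝟙 _ := congrArg (fun t => t.right) e.inv_hom_id
  constructor
  · intro h
    have h3 : F.map g ≫ F.map e.inv.right = 0 := by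
      rw [← F.map_comp, h2, F.map_comp, h, comp_zero]
    calc F.map g = F.map g ≫ F.map e.inv.right ≫ F.map e.hom.right := by
          rw [← F.map_comp e.inv.right, a2, F.map_id]
          exact (Category.comp_id _).symm
      _ = 0 := by rw [reassoc_of% h3, zero_comp]
  · intro h
    have h3 : F.map f ≫ F.map e.hom.right = 0 := by
      rw [← F.map_comp, h1, F.map_comp, h, comp_zero]
    calc F.map f = F.map f ≫ F.map e.hom.right ≫ F.map e.inv.right := by
          rw [← F.map_comp e.hom.right, a1, F.map_id]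
          exact (Category.comp_id _).symm
      _ = 0 := by rw [reassoc_of% h3, zero_comp]

theorem hls_iff {Q : Scheme.{u}} (n q : ℕ) {U V U' V' : Q.Etale} {f : V ⟶ U} {g : V' ⟶ U'}
    (e : Arrow.mk f ≅ Arrow.mk g) : HLS n q f = 0 ↔ HLS n q g = 0 :=
  map_eq_zero_iff (JF Q (ZMod n) ⋙ EtCoh.HF Q q) e

/-- An isomorphism of arrows of the étale site from isomorphisms of schemes. -/
theorem nonempty_arrow {Q : Scheme.{u}} {U V U' V' : Q.Etale} (f : V ⟶ U) (g : V' ⟶ U')
    (a : V.left ≅ V'.left) (b : U.left ≅ U'.left) (ha : a.hom ≫ V'.hom = V.hom)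
    (hb : b.hom ≫ U'.hom = U.hom) (h : a.hom ≫ g.left = f.left ≫ b.hom) :
    Nonempty (Arrow.mk f ≅ Arrow.mk g) :=
  ⟨Arrow.isoMk (MorphismProperty.Over.isoMk a ha) (MorphismProperty.Over.isoMk b hb)
    (MorphismProperty.Over.Hom.ext h)⟩

theorem toTop_left {X : Scheme.{u}} (U : X.Etale) : (toTop U).left = U.hom :=
  (Category.comp_id (toTop U).left).symm.trans (Over.w (toTop U).hom)

theorem comm_aux {Q P W M L A B C : Scheme.{u}} {h : Q ⟶ P} {a : M ⟶ P} {v : L ⟶ P}
    {g : L ⟶ M} {w : W ⟶ M} {i : W ⟶ Q} (hW : IsPullback w i a h) {b : A ⟶ L} {c : A ⟶ Q}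
    (hV : IsPullback b c v h) {b' : B ⟶ M} {c' : B ⟶ Q} (hU : IsPullback b' c' a h) {s : C ⟶ L}
    {t : C ⟶ W} (hC : IsPullback s (t ≫ i) v h) (hst : s ≫ g = t ≫ w) (m : A ⟶ B)
    (m1 : m ≫ b' = b ≫ g) (m2 : m ≫ c' = c) :
    (hV.isoIsPullback _ _ hC).hom ≫ t = m ≫ (hU.isoIsPullback _ _ hW).hom := by
  have e1 : (hV.isoIsPullback _ _ hC).hom ≫ s = b := hV.isoIsPullback_hom_fst _ _ hC
  have e2 : (hV.isoIsPullback _ _ hC).hom ≫ (t ≫ i) = c := hV.isoIsPullback_hom_snd _ _ hC
  have e3 : (hU.isoIsPullback _ _ hW).hom ≫ w = b' := hU.isoIsPullback_hom_fst _ _ hW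
  have e4 : (hU.isoIsPullback _ _ hW).hom ≫ i = c' := hU.isoIsPullback_hom_snd _ _ hW
  apply hW.hom_ext
  · rw [Category.assoc, Category.assoc, e3, m1, ← hst, reassoc_of% e1]
  · rw [Category.assoc, Category.assoc, e4, m2, e2]

/-- The base change to `Q` of a morphism `g : V ⟶ U` étale over `P` is the direct image of the base
change `T = V ×_U W` over `W = U ×_P Q`. -/
theorem nonempty_arrow_bc {Q P W : Scheme.{u}} (h : Q ⟶ P) {U V : P.Etale} (g : V ⟶ U)
    (i : W ⟶ Q) [Etale i] (w : W ⟶ U.left) (hW : IsPullback w i U.hom h) (T : W.Etale)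
    (τ : T.left ⟶ V.left) (hT : IsPullback τ T.hom g.left w) :
    Nonempty (Arrow.mk ((EtCoh.bc h).map g) ≅ Arrow.mk ((EtShriek.compEtale i).map (toTop T))) := by
  have e2 : g.left ≫ U.hom = V.hom := Over.w g.hom
  have hV : IsPullback (pullback.fst V.hom h) (pullback.snd V.hom h) V.hom h :=
    IsPullback.of_hasPullback _ _
  have hU : IsPullback (pullback.fst U.hom h) (pullback.snd U.hom h) U.hom h :=
    IsPullback.of_hasPullback _ _
  have hB : IsPullback τ (T.hom ≫ i) V.hom h := by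
    have := hT.paste_vert hW
    rwa [e2] at this
  have hg1 : ((EtCoh.bc h).map g).left ≫ pullback.fst U.hom h = pullback.fst V.hom h ≫ g.left :=
    (EtCoh.isPullback_bc_map h g).w
  have hg2 : ((EtCoh.bc h).map g).left ≫ pullback.snd U.hom h = pullback.snd V.hom h := by
    exact Over.w ((EtCoh.bc h).map g).hom
  refine nonempty_arrow _ _ (hV.isoIsPullback _ _ hB) (hU.isoIsPullback _ _ hW) ?_ ?_ ?_
  · exact hV.isoIsPullback_hom_snd _ _ hB
  · refine Eq.trans ?_ (hU.isoIsPullback_hom_snd _ _ hW)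
    exact congrArg ((hU.isoIsPullback _ _ hW).hom ≫ ·) (Category.id_comp i)
  · refine (congrArg ((hV.isoIsPullback _ _ hB).hom ≫ ·) (toTop_left T)).trans ?_
    change (hV.isoIsPullback _ _ hB).hom ≫ T.hom =
      ((EtCoh.bc h).map g).left ≫ (hU.isoIsPullback _ _ hW).hom
    exact comm_aux hW hV hU hB hT.w _ hg1 hg2

end Groth.Agent.Etdl.H834.Arrow
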