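import Groth.Agent.Sga4B.EtCoords
import Mathlib.RingTheory.Smooth.NoetherianDescent

/-!
# Noetherian models of charts of smooth morphisms

`exists_chart`: a smooth morphism `f : X ⟶ S` of relative dimension `d` is, locally on `X` and `S`, the
base change of a scheme étale over `P S₀ d` with `S₀` affine and Noetherian (and `n` invertible on
`S₀` if `n` is invertible on `S`).
-/

set_option autoImplicit false
universe u

open CategoryTheory CategoryTheory.Limits AlgebraicGeometry TopologicalSpace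

namespace Groth.Agent.Etdl.H834.Chart

open Groth.Agent.Sga4B.IterP1 Groth.Agent.Sga4B.EtCoords

theorem exists_model {A B : Type u} [CommRing A] [CommRing B] (φ : A →+* B) (d : ℕ)
    (hφ : φ.IsStandardSmoothOfRelativeDimension d) (n : ℕ) (hn : IsUnit (n : A)) :
    ∃ (A₀ B₀ : Type u) (_ : CommRing A₀) (_ : CommRing B₀) (σ : A₀ →+* A) (φ₀ : A₀ →+* B₀)
      (β : B₀ →+* B), IsNoetherianRing A₀ ∧ IsUnit (n : A₀) ∧
      φ₀.IsStandardSmoothOfRelativeDimension d ∧
      IsPushout (CommRingCat.ofHom σ) (CommRingCat.ofHom φ₀) (CommRingCat.ofHom φ)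
        (CommRingCat.ofHom β) := by
  algebraize [φ]
  have hn' : IsUnit ((Int.castRingHom A) (n : ℤ)) := by simpa using hn
  let _ : Algebra (Localization.Away (n : ℤ)) A :=
    (IsLocalization.Away.lift (S := Localization.Away (n : ℤ)) (n : ℤ) hn').toAlgebra
  obtain ⟨A₀, B₀, _, _, hfg, hst, ⟨e⟩⟩ :=
    Algebra.IsStandardSmoothOfRelativeDimension.exists_subalgebra_fg
      (Localization.Away (n : ℤ)) A B d
  have hN : IsNoetherianRing (Localization.Away (n : ℤ)) :=
    IsLocalization.isNoetherianRing (Submonoid.powers (n : ℤ)) _ inferInstance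
  have hft : Algebra.FiniteType (Localization.Away (n : ℤ)) A₀ :=
    (Subalgebra.fg_iff_finiteType A₀).1 hfg
  refine ⟨A₀, B₀, inferInstance, inferInstance, algebraMap A₀ A, algebraMap A₀ B₀,
    (e.symm : TensorProduct A₀ A B₀ →+* B).comp
      (Algebra.TensorProduct.includeRight (R := A₀) (A := A) (B := B₀)).toRingHom,
    Algebra.FiniteType.isNoetherianRing (Localization.Away (n : ℤ)) A₀, ?_, ?_, ?_⟩
  · have h1 : IsUnit (algebraMap ℤ (Localization.Away (n : ℤ)) (n : ℤ)) :=
      IsLocalization.Away.algebraMap_isUnit (n : ℤ)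
    have h2 := h1.map (algebraMap (Localization.Away (n : ℤ)) A₀)
    simpa using h2
  · exact (RingHom.isStandardSmoothOfRelativeDimension_algebraMap d).2 hst
  · refine (CommRingCat.isPushout_tensorProduct A₀ A B₀).of_iso (Iso.refl _) (Iso.refl _)
      (Iso.refl _) e.symm.toRingEquiv.toCommRingCatIso ?_ ?_ ?_ ?_
    · rfl
    · rfl
    · ext a
      exact e.symm.commutes a
    · rfl

theorem exists_chart {X S : Scheme.{u}} (f : X ⟶ S) (d : ℕ) [SmoothOfRelativeDimension d f] (n : ℕ)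
    (hn : IsUnit (n : Γ(S, ⊤))) (x : X) :
    ∃ (V S' S₀ B₀ : Scheme.{u}) (v : V ⟶ X) (s : S' ⟶ S) (f' : V ⟶ S') (σ : S' ⟶ S₀)
      (β : V ⟶ B₀) (b : B₀ ⟶ P S₀ d), IsAffine V ∧ IsAffine S' ∧ IsAffine S₀ ∧ IsAffine B₀ ∧
      IsNoetherian S₀ ∧ IsOpenImmersion v ∧ IsOpenImmersion s ∧ x ∈ Set.range v ∧
      v ≫ f = f' ≫ s ∧ Etale b ∧ IsUnit (n : Γ(S₀, ⊤)) ∧ IsPullback β f' (b ≫ toBase S₀ d) σ := by
  obtain ⟨U, hU, V, hV, hx, e, hstd⟩ :=
    SmoothOfRelativeDimension.exists_isStandardSmoothOfRelativeDimension (n := d) (f := f) x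
  have hn' : IsUnit (n : Γ(S, U)) := by
    have := hn.map (S.presheaf.map (homOfLE (le_top : U ≤ ⊤)).op).hom
    simpa using this
  obtain ⟨A₀, B₀, _, _, σ, φ₀, β, hN, hn₀, hφ₀, hpo⟩ := exists_model _ d hstd n hn'
  obtain ⟨g, hg, hg'⟩ := exists_etale_mvPolynomial_ulift hφ₀
  have hge : Etale (Spec.map (CommRingCat.ofHom g)) := by
    rw [HasRingHomProperty.Spec_iff (P := @Etale)]
    exact hg'
  let b : Spec (CommRingCat.of B₀) ⟶ P (Spec (CommRingCat.of A₀)) d :=
    Spec.map (CommRingCat.ofHom g) ≫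
      (AffineSpace.SpecIso (ULift.{u} (Fin d)) (CommRingCat.of A₀)).inv ≫
        aff (Spec (CommRingCat.of A₀)) d
  have hb : b ≫ toBase (Spec (CommRingCat.of A₀)) d = Spec.map (CommRingCat.ofHom φ₀) := by
    simp only [b, Category.assoc, aff_toBase, AffineSpace.SpecIso_inv_over]
    rw [← Spec.map_comp, ← CommRingCat.ofHom_comp, hg]
  have hbe : Etale b := by
    have : Etale (aff (Spec (CommRingCat.of A₀)) d) := inferInstance
    infer_instance
  have : IsNoetherianRing (CommRingCat.of A₀) := hN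
  refine ⟨Spec Γ(X, V), Spec Γ(S, U), Spec (CommRingCat.of A₀), Spec (CommRingCat.of B₀),
    hV.fromSpec, hU.fromSpec, Spec.map (f.appLE U V e), Spec.map (CommRingCat.ofHom σ),
    Spec.map (CommRingCat.ofHom β), b, inferInstance, inferInstance, inferInstance, inferInstance,
    inferInstance, inferInstance, inferInstance, ?_, ?_, hbe, ?_, ?_⟩
  · rw [hV.range_fromSpec]; exact hx
  · exact (hU.SpecMap_appLE_fromSpec f hV e).symm
  · have h1 := hn₀.map (Scheme.ΓSpecIso (CommRingCat.of A₀)).inv.hom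
    simpa using h1
  · rw [hb]
    exact isPullback_SpecMap_of_isPushout _ _ _ _ hpo.flip

end Groth.Agent.Etdl.H834.Chart
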