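import Groth.Agent.Sga4B.DualAsm
import Groth.Agent.Sga4B.ZModInj
import Groth.Agent.Etdl.H834.Arrow

/-!
# Duality and the maps `H^m(P, j_! L[W']) ⟶ H^m(P, j_! L[W])`

If `K` is dualizing (for `F ↦ H^*(P, j_! F)`) in degree `N` and isomorphic to `ℤ/n`, then
`H^m(P, j_! L[W']) ⟶ H^m(P, j_! L[W])` vanishes as soon as all classes of `Ext^q(ℤ[W], ℤ/n)`,
`q = N - m`, die in `Ext^q(ℤ[W'], ℤ/n)`.
-/

set_option autoImplicit false
universe u
open CategoryTheory CategoryTheory.Limits CategoryTheory.Abelian AlgebraicGeometry Opposite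

namespace Groth.Agent.Etdl.H834.FibDual

open Groth.Agent.Sga4B Groth.Agent.Sga4B.DualShape Groth.Agent.EtpbcA Groth.Agent.Etrest.ModAb
  Groth.Agent.Sga4B.LMLS Groth.Agent.Etcore Groth.Agent.Sga4B.DualAsm Groth.Agent.Sga4B.DualFormal
  Groth.Agent.Sga4B.ModExtU

variable {X P : Scheme.{u}} {n : ℕ}

/-- `Ext^q_Λ(Λ[U], F) → Ext^q(ℤ[U], F)`. -/
noncomputable def cmp (U : X.Etale) (F : EtModW.Mod (Lam.{u} n) X) (q : ℕ)
    (e : Ext.{u + 1} (LFree.LM (Lam.{u} n) U) F q) :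
    Ext.{u + 1} (ZS U) ((ab (Lam.{u} n) X).obj F) q :=
  (Ext.mk₀ (secMap U (LMLS.gen n U))).comp (e.mapExactFunctor (ab (Lam.{u} n) X)) (zero_add q)

theorem cmp_bijective (U : X.Etale) (F : EtModW.Mod (Lam.{u} n) X) (q : ℕ) :
    Function.Bijective (cmp U F q) :=
  bijective_comp U (Lam.{u} n) (LFree.LM (Lam.{u} n) U) (LMLS.gen n U)
    (fun F => (LFree.homEquiv (Λ := Lam.{u} n) U F).bijective) F q

theorem cmp_zero (U : X.Etale) (F : EtModW.Mod (Lam.{u} n) X) (q : ℕ) : cmp U F q 0 = 0 := by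
  unfold cmp
  rw [Ext.mapExactFunctor_zero, Ext.comp_zero]

/-- Naturality of `cmp` in `U`. -/
theorem cmp_map {U V : X.Etale} (g : V ⟶ U) (F : EtModW.Mod (Lam.{u} n) X) (q : ℕ)
    (e : Ext.{u + 1} (LFree.LM (Lam.{u} n) U) F q) :
    cmp V F q ((Ext.mk₀ (LFree.map g)).comp e (zero_add q)) =
      (Ext.mk₀ (ZSmap g)).comp (cmp U F q e) (zero_add q) := by
  have h1 : secMap V (LMLS.gen n V) ≫ (ab (Lam.{u} n) X).map (LFree.map g) =
      ZSmap g ≫ secMap U (LMLS.gen n U) := by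
    rw [secMap_comp, ZSmap_secMap]
    congr 1
    exact LFree.map_gen g
  unfold cmp
  rw [Ext.mapExactFunctor_comp, Ext.mapExactFunctor_mk₀, Ext.mk₀_comp_mk₀_assoc,
    Ext.mk₀_comp_mk₀_assoc, h1]

variable (j : X ⟶ P) [Etale j] {N : ℕ} {K : EtModW.Mod (Lam.{u} n) X}
  (tr : Ext.{u + 1} (Z P) ((Psi j n).obj K) N →+ E.{u} n)

/-- The main formal statement, for sheaves of modules. -/
theorem map_T_eq_zero (hn : 0 < n) {q m : ℕ} (h : m + q = N)
    (hb : ∀ F : EtModW.Mod (Lam.{u} n) X, Function.Bijective (phi (Psi j n) (Z P) tr F h))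
    (i : (ab (Lam.{u} n) X).obj K ≅ EtCoh.const X (ZMod n)) {W W' : X.Etale} (g : W' ⟶ W)
    (hg : ∀ e : Ext.{u + 1} (ZS W) (EtCoh.const X (ZMod n)) q,
      (Ext.mk₀ (ZSmap g)).comp e (zero_add q) = 0) :
    (T j n m).map (LFree.map (Λ := Lam.{u} n) g) = 0 := by
  have h1 : ∀ e : Ext.{u + 1} (LFree.LM (Lam.{u} n) W) K q,
      (Ext.mk₀ (LFree.map g)).comp e (zero_add q) = 0 := by
    intro e
    apply (cmp_bijective W' K q).1
    rw [cmp_map, cmp_zero]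
    have h3 := hg ((cmp W K q e).comp (Ext.mk₀ i.hom) (add_zero q))
    have h4 : ((Ext.mk₀ (ZSmap g)).comp (cmp W K q e) (zero_add q)) =
        ((Ext.mk₀ (ZSmap g)).comp ((cmp W K q e).comp (Ext.mk₀ i.hom) (add_zero q))
          (zero_add q)).comp (Ext.mk₀ i.inv) (add_zero q) := by
      rw [Ext.comp_assoc_of_third_deg_zero, Ext.comp_assoc_of_third_deg_zero, Ext.mk₀_comp_mk₀,
        i.hom_inv_id, Ext.comp_mk₀_id]
    rw [h4, h3, Ext.zero_comp]
  ext x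
  change x.comp (Ext.mk₀ ((Psi j n).map (LFree.map (Λ := Lam.{u} n) g))) (add_zero m) = 0
  refine ZModInj.eq_zero_of_forall n hn (fun y => nsmul_ext j _ m y) _ (fun b => ?_)
  obtain ⟨e, he⟩ := (hb (LFree.LM (Lam.{u} n) W)).2 (AddEquiv.ulift.symm.toAddMonoidHom.comp b)
  have h2 := phi_comp (Psi j n) (Z P) tr (LFree.map (Λ := Lam.{u} n) g) h e x
  rw [h1 e, he, map_zero] at h2
  exact (congrArg ULift.down h2).symm

/-- The same for `L[W]`. -/
theorem map_extZero_eq_zero (hn : 0 < n) {q m : ℕ} (h : m + q = N)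
    (hb : ∀ F : EtModW.Mod (Lam.{u} n) X, Function.Bijective (phi (Psi j n) (Z P) tr F h))
    (i : (ab (Lam.{u} n) X).obj K ≅ EtCoh.const X (ZMod n)) {W W' : X.Etale} (g : W' ⟶ W)
    (hg : ∀ e : Ext.{u + 1} (ZS W) (EtCoh.const X (ZMod n)) q,
      (Ext.mk₀ (ZSmap g)).comp e (zero_add q) = 0) :
    (EtCoh.HF P m).map ((EtShriek.extZero j).map (LSmap n g)) = 0 := by
  have h0 := map_T_eq_zero j tr hn h hb i g hg
  have h2 := (Functor.isoWhiskerRight (isoLSF (X := X) n)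
    (EtShriek.extZero j ⋙ EtCoh.HF P m)).inv.naturality g
  have h1 : ((LFree.LMF (Lam.{u} n) X ⋙ ab (Lam.{u} n) X) ⋙
    EtShriek.extZero j ⋙ EtCoh.HF P m).map g = 0 := h0
  rw [h1, comp_zero] at h2
  exact (cancel_mono ((Functor.isoWhiskerRight (isoLSF (X := X) n)
    (EtShriek.extZero j ⋙ EtCoh.HF P m)).inv.app W)).1 (h2.trans zero_comp.symm)

/-- `H^q(P, j_! L[U]) ⟶ H^q(P, j_! L[V])` is `H^q(P, L[U]) ⟶ H^q(P, L[V])`. -/
theorem map_extZero_eq_zero_iff (n q : ℕ) {U V : X.Etale} (g : U ⟶ V) :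
    (EtCoh.HF P q).map ((EtShriek.extZero j).map (LSmap n g)) = 0 ↔
      HLS n q ((EtShriek.compEtale j).map g) = 0 := by
  have h := (Functor.isoWhiskerRight (JFComp.extZeroIso (ZMod n) j) (EtCoh.HF P q)).hom.naturality g
  constructor
  · intro h0
    have h1 : (((JF X (ZMod n) ⋙ EtShriek.extZero j) ⋙ EtCoh.HF P q)).map g = 0 := h0
    rw [h1, zero_comp] at h
    exact (cancel_epi ((Functor.isoWhiskerRight (JFComp.extZeroIso (ZMod n) j)
      (EtCoh.HF P q)).hom.app U)).1 (h.symm.trans comp_zero.symm)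
  · intro h0
    have h1 : ((EtShriek.compEtale j ⋙ JF P (ZMod n)) ⋙ EtCoh.HF P q).map g = 0 := h0
    rw [h1, comp_zero] at h
    exact (cancel_mono ((Functor.isoWhiskerRight (JFComp.extZeroIso (ZMod n) j)
      (EtCoh.HF P q)).hom.app V)).1 (h.trans zero_comp.symm)

/-- Finiteness of `Ext^q(ℤ[W], ℤ/n)`. -/
theorem finite_ext {q m : ℕ} (h : m + q = N)
    (hb : ∀ F : EtModW.Mod (Lam.{u} n) X, Function.Bijective (phi (Psi j n) (Z P) tr F h))
    (i : (ab (Lam.{u} n) X).obj K ≅ EtCoh.const X (ZMod n)) (hn : 0 < n) (W : X.Etale)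
    [Finite ((EtCoh.HF P m).obj ((EtShriek.extZero j).obj (LS n W)))] :
    Finite (Ext.{u + 1} (ZS W) (EtCoh.const X (ZMod n)) q) := by
  have : NeZero n := ⟨hn.ne'⟩
  have e1 : (T j n m).obj (LFree.LM (Lam.{u} n) W) ≃+
      (EtCoh.HF P m).obj ((EtShriek.extZero j).obj (LS n W)) :=
    (((Functor.isoWhiskerRight (isoLSF (X := X) n)
      (EtShriek.extZero j ⋙ EtCoh.HF P m))).app W).addCommGroupIsoToAddEquiv
  have f1 : Finite ((T j n m).obj (LFree.LM (Lam.{u} n) W)) := Finite.of_equiv _ e1.symm.toEquiv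
  have f0 : Finite (Ext.{u + 1} (Z P) ((Psi j n).obj (LFree.LM (Lam.{u} n) W)) m) := f1
  have f2 : Finite (Ext.{u + 1} (Z P) ((Psi j n).obj (LFree.LM (Lam.{u} n) W)) m →+ E.{u} n) := by
    have : Finite (E.{u} n) := Finite.of_equiv (ZMod n) Equiv.ulift.symm
    exact Finite.of_injective (fun f => (f : _ → _)) DFunLike.coe_injective
  have f3 : Finite (Ext.{u + 1} (LFree.LM (Lam.{u} n) W) K q) :=
    Finite.of_injective _ (hb (LFree.LM (Lam.{u} n) W)).1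
  have f4 : Finite (Ext.{u + 1} (ZS W) ((ab (Lam.{u} n) X).obj K) q) :=
    Finite.of_surjective _ (cmp_bijective W K q).2
  refine Finite.of_surjective (fun e : Ext.{u + 1} (ZS W) ((ab (Lam.{u} n) X).obj K) q =>
    e.comp (Ext.mk₀ i.hom) (add_zero q)) (fun e => ⟨e.comp (Ext.mk₀ i.inv) (add_zero q), ?_⟩)
  change (e.comp (Ext.mk₀ i.inv) (add_zero q)).comp (Ext.mk₀ i.hom) (add_zero q) = e
  rw [Ext.comp_assoc_of_third_deg_zero, Ext.mk₀_comp_mk₀, i.inv_hom_id, Ext.comp_mk₀_id]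

end Groth.Agent.Etdl.H834.FibDual
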