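import Groth.Agent.Sga4B.CmpComp
import Groth.Agent.Sga4B.DualW
import Groth.Agent.Etdl.H834.FibDual

/-!
# `H^q(Q, L[V']) ⟶ H^q(Q, L[V])` depends only on `V' ⟶ V ⟶ S`

For `V' ⟶ V` étale over `P`, `P` proper over `S`, and a geometric point `t` of `S` with `V_t` affine,
the vanishing of `H^q(P_t, L[V'_t]) ⟶ H^q(P_t, L[V_t])` depends only on `V'_t ⟶ V_t`.
-/

set_option autoImplicit false
universe u
open CategoryTheory CategoryTheory.Limits CategoryTheory.Abelian AlgebraicGeometry Opposite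

namespace Groth.Agent.Etdl.H834.FibCmp

open Groth.Agent.Sga4B Groth.Agent.Sga4B.DualShape Groth.Agent.EtpbcA.OverSite Groth.Agent.Etrest

/-- A morphism of sheaves vanishes if all its geometric stalks do. -/
theorem eq_zero_of_geom {S : Scheme.{u}} {A M : EtCoh.Ab S} (φ : A ⟶ M)
    (h : ∀ (Ω : Type u) [Field Ω] [IsSepClosed Ω] (t : Spec (CommRingCat.of Ω) ⟶ S),
      (EtCoh.stalk t).map φ = 0) : φ = 0 := by
  refine DualW.eq_zero_of_stalks φ Set.univ ?_ ?_
  · intro U s hs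
    have h1 : (EtShriek.sectSupp M U s).Nonempty := by
      rw [Set.nonempty_iff_ne_empty]
      intro h0
      exact hs ((Supp.sectSupp_eq_empty_iff M U s).1 h0)
    obtain ⟨u, hu⟩ := h1
    exact ⟨u, hu, Set.mem_univ _⟩
  · intro y _
    obtain ⟨Ω, h1, h2, t, ht⟩ := SuppPull.exists_geom S y
    exact ⟨Ω, h1, inferInstance, t, ht, h Ω t⟩

/-- `L[∅] = 0`. -/
theorem isZero_LS_of_isEmpty {X : Scheme.{u}} (n : ℕ) (V : X.Etale) [IsEmpty V.left] :
    IsZero (LS n V) := by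
  rw [IsZero.iff_id_eq_zero]
  apply Groth.Agent.EtpbcA.Jshriek.hom_ext V
  intro m
  exact Groth.Agent.Etbase.EtSite.sect_ext (LS n V) V _ _ fun x => isEmptyElim x

theorem hls_eq_zero_of_isEmpty {X : Scheme.{u}} (n q : ℕ) {U V : X.Etale} [IsEmpty V.left]
    (g : U ⟶ V) : HLS n q g = 0 := by
  have h : LSmap n g = 0 := (isZero_LS_of_isEmpty n V).eq_of_tgt _ _
  change (EtCoh.HF X q).map (LSmap n g) = 0
  rw [h, Functor.map_zero]

/-- Independence of the proper target. -/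
theorem hls_comp_iff {W P P' B : Scheme.{u}} (i : W ⟶ P) (v : W ⟶ P') (a : P ⟶ B) (b : P' ⟶ B)
    (w : i ≫ a = v ≫ b) [Etale i] [IsSeparated i] [Etale v] [IsSeparated v] [IsProper a]
    [IsProper b] {n : ℕ} (hn : 0 < n) (q : ℕ) {U V : W.Etale} (g : U ⟶ V) :
    HLS n q ((EtShriek.compEtale i).map g) = 0 ↔ HLS n q ((EtShriek.compEtale v).map g) = 0 := by
  rw [← FibDual.map_extZero_eq_zero_iff, ← FibDual.map_extZero_eq_zero_iff]
  obtain ⟨e, he⟩ := CmpComp.stmtCmp i v a b w q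
  have hU := DualW.isTorsion_of_killedBy hn (DualW.killedBy_LS n U)
  have hV := DualW.isTorsion_of_killedBy hn (DualW.killedBy_LS n V)
  have h1 := he _ _ hU hV (LSmap n g)
  constructor
  · intro h
    rw [h, zero_comp] at h1
    exact (cancel_epi (e _ hU).hom).1 (h1.trans comp_zero.symm)
  · intro h
    rw [h, comp_zero] at h1
    exact (cancel_mono (e _ hV).hom).1 (h1.symm.trans zero_comp.symm)

/-- The fibre of `V' ⟶ V` at `t`, in terms of `W = V_t` and `T = V'_t ⟶ W`. -/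
theorem exists_comp {P S B W : Scheme.{u}} (p : P ⟶ S) [IsProper p] (t : B ⟶ S) [IsAffine B]
    [IsAffine W] {V V' : P.Etale} (g : V' ⟶ V) (w : W ⟶ V.left) (e : W ⟶ B)
    (hW : IsPullback w e (V.hom ≫ p) t) (T : W.Etale) (τ : T.left ⟶ V'.left)
    (hT : IsPullback τ T.hom g.left w) (n q : ℕ) :
    ∃ (i : W ⟶ pullback p t) (_ : Etale i) (_ : IsSeparated i), i ≫ pullback.snd p t = e ∧
      (HLS n q ((EtCoh.bc (pullback.fst p t)).map g) = 0 ↔
        HLS n q ((EtShriek.compEtale i).map (toTop T)) = 0) := by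
  have h1 : (w ≫ V.hom) ≫ p = e ≫ t := by rw [Category.assoc, hW.w]
  let i : W ⟶ pullback p t := pullback.lift (w ≫ V.hom) e h1
  have hi1 : i ≫ pullback.fst p t = w ≫ V.hom := pullback.lift_fst _ _ _
  have hi2 : i ≫ pullback.snd p t = e := pullback.lift_snd _ _ _
  have hi : IsPullback w i V.hom (pullback.fst p t) := by
    refine IsPullback.of_bot (v₂₁ := pullback.snd p t) (v₂₂ := p) (h₃₁ := t) ?_ hi1.symm
      (IsPullback.of_hasPullback p t)
    rw [hi2]
    exact hW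
  have hie : Etale i := MorphismProperty.of_isPullback (P := @Etale) hi V.prop
  have his : IsSeparated i := by
    have h2 : IsSeparated (i ≫ pullback.snd p t) := by
      rw [hi2]
      infer_instance
    exact IsSeparated.of_comp i (pullback.snd p t)
  obtain ⟨E⟩ := Arrow.nonempty_arrow_bc (pullback.fst p t) g i w hi T τ hT
  exact ⟨i, hie, his, hi2, Arrow.hls_iff n q E⟩

/-- Comparison of fibres for two proper schemes. -/
theorem hls_bc_iff {P P' S S' B W : Scheme.{u}} (p : P ⟶ S) [IsProper p] (t : B ⟶ S)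
    (p' : P' ⟶ S') [IsProper p'] (t' : B ⟶ S') [IsAffine B] [IsAffine W] {V V₁ : P.Etale}
    (g : V₁ ⟶ V) {V' V₁' : P'.Etale} (g' : V₁' ⟶ V') (w : W ⟶ V.left) (w' : W ⟶ V'.left)
    (e : W ⟶ B) (hW : IsPullback w e (V.hom ≫ p) t) (hW' : IsPullback w' e (V'.hom ≫ p') t')
    (T : W.Etale) (τ : T.left ⟶ V₁.left) (hT : IsPullback τ T.hom g.left w)
    (τ' : T.left ⟶ V₁'.left) (hT' : IsPullback τ' T.hom g'.left w') {n : ℕ} (hn : 0 < n) (q : ℕ) :
    HLS n q ((EtCoh.bc (pullback.fst p t)).map g) = 0 ↔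
      HLS n q ((EtCoh.bc (pullback.fst p' t')).map g') = 0 := by
  obtain ⟨i, h1, h2, h3, h4⟩ := exists_comp p t g w e hW T τ hT n q
  obtain ⟨i', h1', h2', h3', h4'⟩ := exists_comp p' t' g' w' e hW' T τ' hT' n q
  rw [h4, h4']
  exact hls_comp_iff i i' (pullback.snd p t) (pullback.snd p' t') (h3.trans h3'.symm) hn q
    (toTop T)

end Groth.Agent.Etdl.H834.FibCmp
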