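import Groth.Agent.Etdl.H834.Rel
import Groth.Agent.Etdl.H834.Chart
import Groth.Agent.Etdl.H834.FibCmp
import Groth.Agent.Etdl.H426.EffMod

/-!
# Local effaceability of `R^q f_! L[U]` for `f` smooth of relative dimension `d`, `q < 2 d`

`eff` (abelian sheaves) and `stmtEff : H426.Iface.StmtEff` (the second input of S3727).
-/

set_option autoImplicit false
universe u
open CategoryTheory CategoryTheory.Limits CategoryTheory.Abelian AlgebraicGeometry Opposite

namespace Groth.Agent.Etdl.H834.Main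

open Groth.Agent.Sga4B Groth.Agent.Sga4B.DualShape Groth.Agent.Sga4B.IterP1

/-- The stalk at `t` of `R^q p_* j_! L[V] ⟶ R^q p_* j_! L[U]`. -/
theorem stalk_extZero_iff {X Q S : Scheme.{u}} (j : X ⟶ Q) [Etale j] (p : Q ⟶ S) [IsProper p]
    {n : ℕ} (hn : 0 < n) {Ω : Type u} [Field Ω] [IsSepClosed Ω]
    (t : Spec (CommRingCat.of Ω) ⟶ S) {U V : X.Etale} (g : V ⟶ U) (q : ℕ) :
    (EtCoh.stalk t).map ((EtCoh.Rpush p q).map ((EtShriek.extZero j).map (LSmap n g))) = 0 ↔
      HLS n q ((EtCoh.bc (pullback.fst p t)).map ((EtShriek.compEtale j).map g)) = 0 := by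
  rw [← Rel.stalk_map_eq_zero_iff p hn t]
  have e : CategoryTheory.Arrow.mk ((EtShriek.extZero j).map (LSmap n g)) ≅
      CategoryTheory.Arrow.mk (LSmap n ((EtShriek.compEtale j).map g)) :=
    CategoryTheory.Arrow.isoMk ((JFComp.extZeroIso (ZMod n) j).app V)
      ((JFComp.extZeroIso (ZMod n) j).app U) ((JFComp.extZeroIso (ZMod n) j).hom.naturality g).symm
  exact Arrow.map_eq_zero_iff (EtCoh.Rpush p q ⋙ EtCoh.stalk t) e

/-- The fibre of `V ⟶ X ⟶ Q` at `t` is empty if `t` is not in the image of `V ⟶ S`. -/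
theorem isEmpty_bc {Q S T : Scheme.{u}} (p : Q ⟶ S) (t : T ⟶ S) (V : Q.Etale)
    (h : ∀ (y : V.left) (z : T), p (V.hom y) ≠ t z) :
    IsEmpty ((EtCoh.bc (pullback.fst p t)).obj V).left := by
  refine ⟨fun (z : (pullback V.hom (pullback.fst p t) : Scheme.{u})) => ?_⟩
  refine h (pullback.fst V.hom (pullback.fst p t) z)
    (pullback.snd p t (pullback.snd V.hom (pullback.fst p t) z)) ?_
  rw [← Scheme.Hom.comp_apply, ← Scheme.Hom.comp_apply, ← Scheme.Hom.comp_apply,
    pullback.condition_assoc, pullback.condition, Scheme.Hom.comp_apply]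

/-- **Local effaceability.** -/
theorem eff {X S : Scheme.{u}} {f : X ⟶ S} (d : ℕ) [SmoothOfRelativeDimension d f]
    (c : DEt.Compactification f) (n : ℕ) (hn0 : 0 < n) (hn : IsUnit (n : Γ(S, ⊤))) (U : X.Etale)
    (x : U.left) (q : ℕ) (hq : q < 2 * d) :
    ∃ (V : X.Etale) (g : V ⟶ U), x ∈ Set.range g.left ∧
      (EtCoh.Rpush c.fbar q).map ((EtShriek.extZero c.j).map (LSmap n g)) = 0 := by
  have hUe : Etale U.hom := U.prop
  have hs0 : SmoothOfRelativeDimension (0 + d) (U.hom ≫ f) := inferInstance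
  have hs : SmoothOfRelativeDimension d (U.hom ≫ f) := by rwa [Nat.zero_add] at hs0
  obtain ⟨V, S', S₀, B₀, v, s, f', σ, β, b, hVa, hS'a, hS₀a, hB₀a, hN, hvo, hso, ⟨y, hy⟩, hf', hb,
    hn₀, hpb⟩ := Chart.exists_chart (U.hom ≫ f) d n hn x
  let U₀ : (P S₀ d).Etale := Scheme.Etale.mk b
  have : IsAffine U₀.left := hB₀a
  obtain ⟨V₀, g₀, hV₀, ⟨z, hz⟩, h0⟩ := Rel.exists_nbhd (toBase S₀ d) d hn0 hn₀ q hq U₀ (β y)
  have hg₀ : Etale g₀.left := inferInstance
  let V₁ : X.Etale := Scheme.Etale.mk (v ≫ U.hom)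
  let g₁ : V₁ ⟶ U := MorphismProperty.Over.homMk v rfl
  let W₁ : X.Etale := Scheme.Etale.mk (pullback.snd g₀.left β ≫ v ≫ U.hom)
  let g₂ : W₁ ⟶ V₁ := MorphismProperty.Over.homMk (pullback.snd g₀.left β) rfl
  refine ⟨W₁, g₂ ≫ g₁, ?_, ?_⟩
  · obtain ⟨w, hw1, hw2⟩ := Scheme.Pullback.exists_preimage_pullback z y hz
    refine ⟨w, ?_⟩
    change v (pullback.snd g₀.left β w) = x
    rw [hw2, hy]
  · have key : (EtCoh.Rpush c.fbar q).map ((EtShriek.extZero c.j).map (LSmap n g₂)) = 0 := by
      apply FibCmp.eq_zero_of_geom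
      intro Ω _ _ t
      rw [stalk_extZero_iff c.j c.fbar hn0 t g₂ q]
      have e1 : ((EtShriek.compEtale c.j).obj V₁).hom ≫ c.fbar = f' ≫ s := by
        change ((v ≫ U.hom) ≫ c.j) ≫ c.fbar = f' ≫ s
        rw [Category.assoc, c.fac, Category.assoc, hf']
      by_cases hts : t default ∈ Set.range s
      · have hr : Set.range t ⊆ Set.range s := by
          rintro _ ⟨a, rfl⟩
          rwa [Subsingleton.elim a default]
        let t' := IsOpenImmersion.lift s t hr
        have ht' : t' ≫ s = t := IsOpenImmersion.lift_fac s t hr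
        have hW1 : IsPullback (pullback.fst f' t') (pullback.snd f' t') f' t' :=
          IsPullback.of_hasPullback _ _
        have hW2 : IsPullback (pullback.fst f' t') (pullback.snd f' t') (f' ≫ s) (t' ≫ s) :=
          IsPullback.of_isLimit (pullbackIsPullbackOfCompMono f' t' s)
        have hW3 : IsPullback (pullback.fst f' t') (pullback.snd f' t')
            (((EtShriek.compEtale c.j).obj V₁).hom ≫ c.fbar) t := by
          have h2 := hW2
          rw [ht', ← e1] at h2
          exact h2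
        have hW4 : IsPullback (pullback.fst f' t' ≫ β) (pullback.snd f' t')
            (U₀.hom ≫ toBase S₀ d) (t' ≫ σ) := hW1.paste_horiz hpb
        let T : (pullback f' t').Etale :=
          Scheme.Etale.mk (pullback.snd g₀.left (pullback.fst f' t' ≫ β))
        have hT' : IsPullback (pullback.fst g₀.left (pullback.fst f' t' ≫ β)) T.hom g₀.left
            (pullback.fst f' t' ≫ β) := IsPullback.of_hasPullback _ _
        have hc : pullback.fst g₀.left (pullback.fst f' t' ≫ β) ≫ g₀.left =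
            (T.hom ≫ pullback.fst f' t') ≫ β := by
          rw [Category.assoc]
          exact hT'.w
        have hT : IsPullback (pullback.lift (pullback.fst g₀.left (pullback.fst f' t' ≫ β))
            (T.hom ≫ pullback.fst f' t') hc) T.hom (pullback.snd g₀.left β)
            (pullback.fst f' t') := by
          refine IsPullback.of_right ?_ (pullback.lift_snd _ _ _)
            (IsPullback.of_hasPullback g₀.left β)
          rw [pullback.lift_fst]
          exact hT'
        rw [FibCmp.hls_bc_iff c.fbar t (toBase S₀ d) (t' ≫ σ) ((EtShriek.compEtale c.j).map g₂) g₀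
          (pullback.fst f' t') (pullback.fst f' t' ≫ β) (pullback.snd f' t') hW3 hW4 T _ hT _ hT'
          hn0 q, ← Rel.stalk_map_eq_zero_iff (toBase S₀ d) hn0 (t' ≫ σ), h0, Functor.map_zero]
      · have : IsEmpty ((EtCoh.bc (pullback.fst c.fbar t)).obj
            ((EtShriek.compEtale c.j).obj V₁)).left := by
          refine isEmpty_bc c.fbar t _ (fun a b hab => hts ?_)
          rw [Subsingleton.elim default b, ← hab, ← Scheme.Hom.comp_apply, e1]
          exact ⟨f' a, (Scheme.Hom.comp_apply f' s a).symm⟩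
        exact FibCmp.hls_eq_zero_of_isEmpty n q _
    have h1 : LSmap n (g₂ ≫ g₁) = LSmap n g₂ ≫ LSmap n g₁ := (JF X (ZMod n)).map_comp g₂ g₁
    rw [h1, Functor.map_comp, Functor.map_comp, key, zero_comp]

/-- **INPUT 2 of S3727.** -/
theorem stmtEff : H426.Iface.StmtEff.{u} := by
  intro X S _ _ _ _ f d _ c n hn0 hn U x q hq
  obtain ⟨V, g, hx, h⟩ := eff d c n hn0 hn U x q hq
  exact ⟨V, g, hx, H426.EffMod.rsh_map_eq_zero c n q g h⟩

end Groth.Agent.Etdl.H834.Main
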