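import Groth.Agent.Sga4B.DualW
import Groth.Agent.Sga4B.DualFinal
import Groth.Agent.Sga4B.PkgB
import Groth.Agent.Sga4B.PBCStmt
import Groth.Agent.S0185
import Groth.Agent.Etdl.H834.FibDual

/-!
# Local effaceability of `R^m p_* L[U]` for `p` proper and smooth over a Noetherian base

For `p : P ⟶ S` proper and smooth of relative dimension `d`, `S` Noetherian and separated, `n`
invertible on `S`, `U` affine and étale over `P`, `x ∈ U` and `m < 2 d` there is an étale neighbourhood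
`V ⟶ U` of `x` with `R^m p_* L[V] ⟶ R^m p_* L[U]` zero.
-/

set_option autoImplicit false
universe u
open CategoryTheory CategoryTheory.Limits CategoryTheory.Abelian AlgebraicGeometry Opposite

namespace Groth.Agent.Etdl.H834.Rel

open Groth.Agent.Sga4B Groth.Agent.Sga4B.DualShape Groth.Agent.Sga4B.DualIface
  Groth.Agent.Sga4B.DualWBasic

section Field

variable {k : Type u} [Field k] [IsAlgClosed k] {P : Scheme.{u}} (a : P ⟶ Spec (CommRingCat.of k))
  [IsProper a] (d : ℕ) [hsm : SmoothOfRelativeDimension d a] (n : ℕ) (hn : (n : k) ≠ 0)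

theorem nonempty_arrow_id {W W' : P.Etale} (g : W' ⟶ W) :
    Nonempty (Arrow.mk ((EtShriek.compEtale (𝟙 P)).map g) ≅ Arrow.mk g) :=
  Arrow.nonempty_arrow _ _ (Iso.refl _) (Iso.refl _)
    ((Category.id_comp W'.hom).trans (Category.comp_id W'.hom).symm)
    ((Category.id_comp W.hom).trans (Category.comp_id W.hom).symm)
    ((Category.id_comp g.left).trans (Category.comp_id g.left).symm)

include a hsm hn in
/-- Over an algebraically closed field: if all classes of degree `q` die on `W'` then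
`H^m(P, L[W']) ⟶ H^m(P, L[W])` vanishes, `m + q = 2 d`. -/
theorem hls_eq_zero {q m : ℕ} (h : m + q = 2 * d) {W W' : P.Etale} (g : W' ⟶ W)
    (hg : ∀ e : Ext.{u + 1} (ZS W) (EtCoh.const P (ZMod n)) q,
      (Ext.mk₀ (ZSmap g)).comp e (zero_add q) = 0) : HLS n m g = 0 := by
  have hn0 : 0 < n := Nat.pos_of_ne_zero (by rintro rfl; exact hn (by simp))
  have : SmoothOfRelativeDimension d (𝟙 P ≫ a) := by rwa [Category.id_comp]
  obtain ⟨K, tr, -, hb, ⟨i⟩⟩ := DualFinal.duality a (𝟙 P) d n hn0 (PkgB.pkg k n hn d)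
  have h1 := FibDual.map_extZero_eq_zero (𝟙 P) tr hn0 h (hb q m h) i g hg
  rw [FibDual.map_extZero_eq_zero_iff] at h1
  obtain ⟨e⟩ := nonempty_arrow_id g
  exact (Arrow.hls_iff n m e).1 h1

include a hsm hn in
/-- Finiteness. -/
theorem finite_ext {q m : ℕ} (h : m + q = 2 * d) (W : P.Etale) [CompactSpace W.left]
    [QuasiSeparatedSpace W.left] : Finite (Ext.{u + 1} (ZS W) (EtCoh.const P (ZMod n)) q) := by
  have hn0 : 0 < n := Nat.pos_of_ne_zero (by rintro rfl; exact hn (by simp))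
  have : NeZero n := ⟨hn0.ne'⟩
  have : SmoothOfRelativeDimension d (𝟙 P ≫ a) := by rwa [Category.id_comp]
  have : CompactSpace P := QuasiCompact.compactSpace_of_compactSpace a
  have : QuasiSeparatedSpace P := (quasiSeparated_iff_quasiSeparatedSpace a).1 inferInstance
  obtain ⟨K, tr, -, hb, ⟨i⟩⟩ := DualFinal.duality a (𝟙 P) d n hn0 (PkgB.pkg k n hn d)
  let W₁ : P.Etale := (EtShriek.compEtale (𝟙 P)).obj W
  have c1 : CompactSpace W₁.left := ‹CompactSpace W.left›
  have c2 : QuasiSeparatedSpace W₁.left := ‹QuasiSeparatedSpace W.left›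
  have f0 : Finite (EtCoh.H P (LS n W₁) m) := S0185.result P a n hn0 _
    (S0133.result P W₁ (ZMod n)) (DualW.killedBy_LS n W₁) m
  have e0 : (EtCoh.HF P m).obj ((EtShriek.extZero (𝟙 P)).obj (LS n W)) ≃+
      (EtCoh.HF P m).obj (LS n W₁) :=
    ((Functor.isoWhiskerRight (JFComp.extZeroIso (ZMod n) (𝟙 P))
      (EtCoh.HF P m)).app W).addCommGroupIsoToAddEquiv
  have f1 : Finite ((EtCoh.HF P m).obj (LS n W₁)) := f0
  have f2 : Finite ((EtCoh.HF P m).obj ((EtShriek.extZero (𝟙 P)).obj (LS n W))) :=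
    Finite.of_equiv _ e0.symm.toEquiv
  exact FibDual.finite_ext (𝟙 P) tr h (hb q m h) i hn0 W

end Field

section Stalk

variable {X S : Scheme.{u}} (p : X ⟶ S) [IsProper p] {n : ℕ} (hn : 0 < n)

include hn in
/-- The stalk at `t` of `R^q p_* L[V] ⟶ R^q p_* L[U]` vanishes iff
`H^q(X_t, L[V_t]) ⟶ H^q(X_t, L[U_t])` does. -/
theorem stalk_map_eq_zero_iff {Ω : Type u} [Field Ω] [IsSepClosed Ω]
    (t : Spec (CommRingCat.of Ω) ⟶ S) {U V : X.Etale} (g : V ⟶ U) (q : ℕ) :
    (EtCoh.stalk t).map ((EtCoh.Rpush p q).map (LSmap n g)) = 0 ↔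
      HLS n q ((EtCoh.bc (pullback.fst p t)).map g) = 0 := by
  refine ⟨fun h => ?_, fun h => DualW.stalk_map_eq_zero p hn (PBCStmt.stmtPBC p) t g q h⟩
  obtain ⟨e, he⟩ := PBCStmt.stmtPBC p Ω t q
  have hU := DualW.isTorsion_of_killedBy hn (DualW.killedBy_LS n U)
  have hV := DualW.isTorsion_of_killedBy hn (DualW.killedBy_LS n V)
  have h1 := he _ _ hV hU (LSmap n g)
  rw [h, zero_comp] at h1
  have h2 : (JF X (ZMod n) ⋙ EtCoh.pull (pullback.fst p t) ⋙ EtCoh.HF (pullback p t) q).map g =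
      0 := by
    change (EtCoh.HF (pullback p t) q).map ((EtCoh.pull (pullback.fst p t)).map (LSmap n g)) = 0
    rw [← cancel_epi (e _ hV).hom, comp_zero]
    exact h1
  have h3 := (Functor.isoWhiskerRight (jPullIso (pullback.fst p t) (ZMod n))
    (EtCoh.HF (pullback p t) q)).hom.naturality g
  have h4 : ((JF X (ZMod n) ⋙ EtCoh.pull (pullback.fst p t)) ⋙
    EtCoh.HF (pullback p t) q).map g = 0 := h2
  rw [h4, comp_zero] at h3
  exact (cancel_mono ((Functor.isoWhiskerRight (jPullIso (pullback.fst p t) (ZMod n))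
    (EtCoh.HF (pullback p t) q)).hom.app U)).1 (h3.trans zero_comp.symm)

end Stalk

section Relative

variable {X S : Scheme.{u}} (p : X ⟶ S) {n : ℕ}

/-- Finitely many finite groups of classes on geometric fibres are killed by an affine étale
neighbourhood. -/
theorem exists_killing [Smooth p] (inv : IsUnit (n : Γ(S, ⊤))) (q : ℕ) (hq : 1 ≤ q) {r : ℕ}
    (Ω : Fin r → Type u)
    [∀ k, Field (Ω k)] [∀ k, IsSepClosed (Ω k)] (t : ∀ k, Spec (CommRingCat.of (Ω k)) ⟶ S)
    [∀ k, IsAffineHom (t k)] (Y : Fin r → Scheme.{u}) (h : ∀ k, Y k ⟶ X)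
    (e : ∀ k, Y k ⟶ Spec (CommRingCat.of (Ω k))) (hc : ∀ k, IsPullback (e k) (h k) (t k) p)
    (U : X.Etale) (x : U.left)
    (hfin : ∀ k, Finite (Ext.{u + 1} (ZS ((EtCoh.bc (h k)).obj U))
      (EtCoh.const (Y k) (ZMod n)) q)) :
    ∃ (V : X.Etale) (g : V ⟶ U), IsAffine V.left ∧ x ∈ Set.range g.left ∧
      ∀ k (c : Ext.{u + 1} (ZS ((EtCoh.bc (h k)).obj U)) (EtCoh.const (Y k) (ZMod n)) q),
        (Ext.mk₀ (ZSmap ((EtCoh.bc (h k)).map g))).comp c (zero_add q) = 0 := by
  obtain ⟨V, g, v, hv, hV⟩ := Groth.Agent.EtpbcA.ConsVan.exists_common_finite x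
    (ι := Σ k, Ext.{u + 1} (ZS ((EtCoh.bc (h k)).obj U)) (EtCoh.const (Y k) (ZMod n)) q)
    (fun i (V : X.Etale) (g : V ⟶ U) =>
      (Ext.mk₀ (ZSmap ((EtCoh.bc (h i.1)).map g))).comp i.2 (zero_add q) = 0)
    (fun i V W g m hc => DualW.ZSmap_bc_comp (h i.1) g m i.2 hc)
    (fun i => DualWKill.zs_dies p (t i.1) (h i.1) (e i.1) (hc i.1) n inv q hq U x i.2)
  obtain ⟨W, m, w, hWa, hw⟩ := DualW.exists_affine_nbhd V v
  refine ⟨W, m ≫ g, hWa, ⟨w, ?_⟩, fun k c => DualW.ZSmap_bc_comp (h k) g m c (hV ⟨k, c⟩)⟩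
  rw [← hv, ← hw]; rfl

theorem natCast_ne_zero {k : Type u} [Field k] (t : Spec (CommRingCat.of k) ⟶ S)
    (inv : IsUnit (n : Γ(S, ⊤))) : (n : k) ≠ 0 := by
  have h := inv.map (t.appTop ≫ (Scheme.ΓSpecIso (CommRingCat.of k)).hom).hom
  rw [map_natCast] at h
  exact h.ne_zero

/-- **Local effaceability, Noetherian base.** -/
theorem exists_nbhd [IsProper p] (d : ℕ) [SmoothOfRelativeDimension d p] [IsNoetherian S]
    [S.IsSeparated] (hn : 0 < n) (inv : IsUnit (n : Γ(S, ⊤))) (m : ℕ) (hm : m < 2 * d)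
    (U : X.Etale) [IsAffine U.left] (x : U.left) :
    ∃ (V : X.Etale) (g : V ⟶ U), IsAffine V.left ∧ x ∈ Set.range g.left ∧
      (EtCoh.Rpush p m).map (LSmap n g) = 0 := by
  have : NeZero n := ⟨hn.ne'⟩
  have : Smooth p := SmoothOfRelativeDimension.smooth d p
  have : LocallyOfFinitePresentation p := inferInstance
  have : CompactSpace X := QuasiCompact.compactSpace_of_compactSpace p
  have : QuasiSeparatedSpace X := quasiSeparatedSpace_of_quasiSeparated p
  obtain ⟨q, hq⟩ : ∃ q, m + q = 2 * d := ⟨2 * d - m, by omega⟩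
  have hM : EtPBC.IsConstructible ((EtCoh.Rpush p m).obj (LS n U)) :=
    S0184.result p n hn _ (S0133.result X U (ZMod n)) (DualW.killedBy_LS n U) m
  obtain ⟨T, hTfin, hT⟩ := ConsEmbed.exists_finite_points _ hM
  obtain ⟨r, y, -, hy⟩ := hTfin.fin_param
  choose Ω h1 h2 t ht using fun k => SuppPull.exists_geom S (y k)
  have haff : ∀ k, IsAffineHom (t k) := fun k => DualW.isAffineHom_of_isSeparated (t k)
  have hWaff : ∀ (k) (V : X.Etale) [IsAffine V.left],
      IsAffine ((EtCoh.bc (pullback.fst p (t k))).obj V).left := fun k V _ =>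
    DualW.isAffine_bc p (t k) (pullback.fst p (t k)) (pullback.snd p (t k))
      (IsPullback.of_hasPullback p (t k)).flip V
  have hsm : ∀ k, SmoothOfRelativeDimension d (pullback.snd p (t k)) := fun k =>
    (smoothOfRelativeDimension_isStableUnderBaseChange (n := d)).of_isPullback
      (IsPullback.of_hasPullback p (t k)) ‹_›
  have hnk : ∀ k, (n : Ω k) ≠ 0 := fun k => natCast_ne_zero (t k) inv
  have hfin : ∀ k, Finite (Ext.{u + 1} (ZS ((EtCoh.bc (pullback.fst p (t k))).obj U))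
      (EtCoh.const (pullback p (t k)) (ZMod n)) q) := fun k => by
    have := hWaff k U
    exact finite_ext (pullback.snd p (t k)) d n (hnk k) hq _
  obtain ⟨V, g, hVa, hx, hV⟩ := exists_killing p inv q (by omega) Ω t (fun k => pullback p (t k))
    (fun k => pullback.fst p (t k)) (fun k => pullback.snd p (t k))
    (fun k => (IsPullback.of_hasPullback p (t k)).flip) U x hfin
  refine ⟨V, g, hVa, hx, ?_⟩
  refine DualW.eq_zero_of_stalks _ T hT ?_
  intro z hz
  rw [← hy] at hz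
  obtain ⟨k, rfl⟩ := hz
  refine ⟨Ω k, h1 k, inferInstance, t k, ht k, ?_⟩
  rw [stalk_map_eq_zero_iff p hn]
  exact hls_eq_zero (pullback.snd p (t k)) d n (hnk k) hq _ (hV k)

end Relative

end Groth.Agent.Etdl.H834.Rel
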